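import Mathlib
import Groth.Prelude.Def_W4stkstmodspWNA
import Groth.Agent.Lib.Helper19.DiagLib
import Groth.Agent.Lib.Helper19.PshSt
import Groth.Agent.Lib.Helper19.DiagRep2

/-!
# The structure functor of a separated scheme is separated (helper19)
-/

set_option autoImplicit false
set_option backward.isDefEq.respectTransparency false

universe u

open CategoryTheory CategoryTheory.Limits AlgebraicGeometry Opposite

namespace Groth.Agent.Helper19.WNA

open FibCat AlgSt Stk Groth.Agent.Helper19.FibLib Groth.Agent.Helper19.StLib Groth.Agent.Helper19.PshLib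
  Groth.Agent.Helper19.PshSt Groth.Agent.Helper19.DiagLib

variable {S : Scheme.{u}}

/-- a functor from the slice of a scheme separated over `S` to the base is separated. -/
theorem repByAlgSpWith_isSeparatedMor_to_selfOver (U : Over S) (hU : IsSeparated U.hom)
    (f : overCat U ⥤ᵇ selfOver (Over S)) : RepByAlgSpWith AlgSp.IsSeparatedMor f := by
  intro T t
  let p₁ : T ⨯ U ⟶ T := prod.fst
  let p₂ : T ⨯ U ⟶ U := prod.snd
  have h : IsPbSec ((AlgSp.yon S).map p₁).hom ((AlgSp.yon S).map p₂).hom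
      (toTermPsh ((AlgSp.yon S).obj T).obj) (toTermPsh ((AlgSp.yon S).obj U).obj) := by
    refine ⟨rfl, ?_, ?_⟩
    · rintro ⟨T'⟩ ⟨x⟩ ⟨y⟩ h1 h2
      have e1 : x ≫ p₁ = y ≫ p₁ := congrArg ULift.down h1
      have e2 : x ≫ p₂ = y ≫ p₂ := congrArg ULift.down h2
      exact congrArg ULift.up (Limits.prod.hom_ext e1 e2)
    · rintro ⟨T'⟩ ⟨a⟩ ⟨b⟩ -
      exact ⟨⟨prod.lift a b⟩, congrArg ULift.up (prod.lift_fst a b),
        congrArg ULift.up (prod.lift_snd a b)⟩
  have hfull := toSelf_ofPsh_full (termPsh.{u + 1} (Over S))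
    (fun T => inferInstanceAs (Subsingleton PUnit))
  have hfaith := toSelf_ofPsh_faithful (termPsh.{u + 1} (Over S))
  have hE := isEquivOver_pbFunctor_fpMap h (toOverCat T) (isEquivOver_toOverCat T) (toOverCat U)
    (isEquivOver_toOverCat U) (toSelf (ofPsh (termPsh.{u + 1} (Over S)))) t f
    (selfOverIso _ _) (selfOverIso _ _)
  refine ⟨⟨(AlgSp.yon S).obj (T ⨯ U), AlgSp.IsAlgSpace.yon_obj _⟩, _, hE, ?_⟩
  have e1 : spMapOfOver (BasedFunctor.comp (BasedFunctor.comp (pbFunctor h.w)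
      (fpMap (toOverCat T) (toOverCat U) (toSelf (ofPsh (termPsh.{u + 1} (Over S))))
        (selfOverIso _ _) (selfOverIso _ _))) (fpFst t f)) =
      spMapOfOver (BasedFunctor.comp (ofSpMap ((AlgSp.yon S).map p₁)) (toOverCat T)) := rfl
  rw [e1]
  have e2 : spMapOfOver (BasedFunctor.comp (ofSpMap ((AlgSp.yon S).map p₁)) (toOverCat T)) =
      (AlgSp.yon S).map p₁ :=
    spMapOfOver_ofPshMap_toOverCat (F' := (AlgSp.yon S).obj (T ⨯ U)) ((AlgSp.yon S).map p₁).hom
  rw [e2, AlgSp.isSeparatedMor_yon_map_iff]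
  have e3 : p₁.left = (Over.prodLeftIsoPullback T U).hom ≫ pullback.fst T.hom U.hom :=
    (Over.prodLeftIsoPullback_hom_fst T U).symm
  rw [e3]
  infer_instance

end Groth.Agent.Helper19.WNA
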