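import Mathlib
import Groth.Prelude.Def_W4stkstmodspWNA
import Groth.Agent.Lib.Helper19.WNA.Sep
import Groth.Agent.Lib.Helper19.QcPts
import Groth.Agent.Lib.Helper19.ProdCover
import Groth.Agent.Lib.Helper19.DiagCover
import Groth.Agent.Lib.Helper19.AffComp
import Groth.Agent.Lib.Helper19.StPtsOpen
import Groth.Agent.Lib.Helper15.AlgSpFinite2
import Groth.Agent.Lib.Helper15.AlgSpLocP
import Groth.Agent.Lib.Helper15.AlgSpDescent
import Groth.Agent.S12970

/-!
# Well-nigh affine stacks are quasi-compact, quasi-DM and separated (helper19)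
-/

set_option autoImplicit false
set_option backward.isDefEq.respectTransparency false

universe u

open CategoryTheory CategoryTheory.Limits AlgebraicGeometry Opposite

namespace Groth.Agent.Helper19.WNA

open FibCat AlgSt Stk Groth.Agent.Helper19.FibLib Groth.Agent.Helper19.StLib Groth.Agent.Helper19.PshLib
  Groth.Agent.Helper19.PshSt Groth.Agent.Helper19.DiagLib Groth.Agent.Helper19.CancelLib
  Groth.Agent.Helper19.SpProps Groth.Agent.Helper19.DiagRep Groth.Agent.Helper19.ChartOver

variable {S : Scheme.{u}}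

theorem etale_le_lqf_lft :
    (@Etale : MorphismProperty Scheme.{u}) ≤
      (@LocallyQuasiFinite ⊓ @LocallyOfFiniteType : MorphismProperty Scheme.{u}) :=
  fun _ _ f hf => by
    haveI : Etale f := hf
    exact ⟨Groth.Agent.Helper15.etale_le_lqf _ _ f hf, inferInstance⟩

theorem isFinite_le_lqf_lft :
    (@IsFinite : MorphismProperty Scheme.{u}) ≤
      (@LocallyQuasiFinite ⊓ @LocallyOfFiniteType : MorphismProperty Scheme.{u}) :=
  fun _ _ f hf => by
    haveI : IsFinite f := hf
    exact ⟨inferInstance, inferInstance⟩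

theorem isClosedImmersion_le_isFinite :
    (@IsClosedImmersion : MorphismProperty Scheme.{u}) ≤ @IsFinite :=
  fun _ _ f hf => by
    haveI : IsClosedImmersion f := hf
    infer_instance

/-- S16697. -/
theorem main (𝒳 : AlgSt.Cat S) (h𝒳 : IsAlgStack Scheme.fppfPrecoverage 𝒳) (hw : IsWellNighAffine 𝒳) :
    IsQuasiCompact 𝒳 ∧ IsQuasiDMOver 𝒳 ∧ IsSeparatedOver 𝒳 := by
  obtain ⟨U, x, hU, hx⟩ := hw
  haveI : IsAffine U.left := hU
  have hsurj : RepByAlgSpWith AlgSp.IsSurjectiveMor x :=
    repByAlgSpWith_mono (fun A T a h => h.1.1.1) hx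
  have hflat : RepByAlgSpWith (AlgSp.LocP @Flat) x :=
    repByAlgSpWith_mono (fun A T a h => h.1.1.2) hx
  have hfin : RepByAlgSpWith AlgSp.IsFiniteMor x :=
    repByAlgSpWith_mono (fun A T a h => h.1.2) hx
  have hlfp : RepByAlgSpWith (AlgSp.LocP @LocallyOfFinitePresentation) x :=
    repByAlgSpWith_mono (fun A T a h => h.2) hx
  have hproper : RepByAlgSpWith AlgSp.IsProperMor x :=
    repByAlgSpWith_mono (fun A T a h =>
      ((Groth.Agent.Helper15.isFiniteMor_iff_affine_proper A.property
        (AlgSp.IsAlgSpace.yon_obj T) a).1 h).2) hfin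
  have hlqf : RepByAlgSpWith (AlgSp.LocP (@LocallyQuasiFinite ⊓ @LocallyOfFiniteType)) x :=
    repByAlgSpWith_mono (fun A T a h =>
      Groth.Agent.Helper15.locP_of_repWith etale_le_lqf_lft a
        (Groth.Agent.Helper15.repWith_mono isFinite_le_lqf_lft
          ((Groth.Agent.Helper19.AffComp.isFiniteMor_iff_repWith a).1 h))) hfin
  refine ⟨?_, ?_, ?_⟩
  · exact Groth.Agent.Helper19.QcPts.isQuasiCompact_of_isSurjective (isAlgStack_overCat U) h𝒳 x
      (Groth.Agent.Helper19.StPts.isSurjective_of_repByAlgSpWith h𝒳.isStack.1 x hsurj)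
      (Groth.Agent.Helper19.QcPts.isQuasiCompact_overCat U)
  · exact Groth.Agent.S12970.result S 𝒳 h𝒳 ⟨(AlgSp.yon S).obj U, AlgSp.IsAlgSpace.yon_obj U⟩
      (BasedFunctor.comp (toOverCat U) x)
      ((repByAlgSpWith_equiv_comp (toOverCat U) (isEquivOver_toOverCat U) x).2 hflat)
      ((repByAlgSpWith_equiv_comp (toOverCat U) (isEquivOver_toOverCat U) x).2 hlfp)
      ((repByAlgSpWith_equiv_comp (toOverCat U) (isEquivOver_toOverCat U) x).2 hsurj)
      ((repByAlgSpWith_equiv_comp (toOverCat U) (isEquivOver_toOverCat U) x).2 hlqf)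
  · have hsep : RepByAlgSpWith AlgSp.IsSeparatedMor (BasedFunctor.comp x (toSelf 𝒳)) :=
      repByAlgSpWith_isSeparatedMor_to_selfOver U inferInstance _
    have hcl : RepByAlgSpWith (AlgSp.RepWith @IsClosedImmersion)
        (FibCat.diag (BasedFunctor.comp x (toSelf 𝒳))) :=
      repByAlgSpWith_diag_of sectionEqOf_separated _ hsep
    have hb : RepByAlgSpWith AlgSp.IsProperMor (FibCat.diag (BasedFunctor.comp x (toSelf 𝒳))) :=
      repByAlgSpWith_mono (fun A T a h =>
        ((Groth.Agent.Helper15.isFiniteMor_iff_affine_proper A.property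
          (AlgSp.IsAlgSpace.yon_obj T) a).1
          ((Groth.Agent.Helper19.AffComp.isFiniteMor_iff_repWith a).2
            (Groth.Agent.Helper15.repWith_mono isClosedImmersion_le_isFinite h))).2) hcl
    exact Groth.Agent.Helper19.ProdCover.repByAlgSpWith_diag_of_atlas stableAlg_isProperMor
      compAlg_isProperMor Groth.Agent.Helper19.DiagCover.isLocalOnBase_fppf_isProperMor
      h𝒳.isStack.1 (isFibGrpd_selfOver (Over S)) (isFibGrpd_overCat U) (toSelf 𝒳) h𝒳.diag x
      (Groth.Agent.Helper19.DescCover.repByAlgSpWith_fppfP x hflat hlfp hsurj) hproper hb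

end Groth.Agent.Helper19.WNA
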